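import Groth.Agent.Fibres16.UOSect.Global

/-!
# Transfer along universally open covers
-/

set_option autoImplicit false
set_option linter.style.haveILetI false

universe u

open CategoryTheory Limits AlgebraicGeometry

namespace Groth.Agent.Fibres16.UOSect

/-- A property of a base change along `g` passes to base changes along morphisms lifting to `g` locally. -/
theorem transfer {X Y Y' Y₁ : Scheme.{u}} (P : MorphismProperty Scheme.{u}) [P.IsStableUnderBaseChange]
    [IsZariskiLocalAtTarget P] (f : X ⟶ Y) (g : Y' ⟶ Y) (h : P (pullback.snd f g)) (m : Y₁ ⟶ Y)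
    (hm : ∀ x : Y₁, ∃ (O : Y₁.Opens) (t : O.toScheme ⟶ Y'), x ∈ O ∧ t ≫ g = O.ι ≫ m) :
    P (pullback.snd f m) := by
  choose O t hO ht using hm
  refine (IsZariskiLocalAtTarget.iff_of_iSup_eq_top O (eq_top_iff.2 fun x _ =>
    TopologicalSpace.Opens.mem_iSup.2 ⟨x, hO x⟩)).2 fun x => ?_
  have h1 : IsPullback ((pullback.snd f m ⁻¹ᵁ O x).ι ≫ pullback.fst f m) (pullback.snd f m ∣_ O x) f (t x ≫ g) := by
    rw [ht x]
    exact (isPullback_morphismRestrict (pullback.snd f m) (O x)).flip.paste_horiz (IsPullback.of_hasPullback f m)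
  have h2 : IsPullback (pullback.fst f g) (pullback.snd f g) f g := IsPullback.of_hasPullback f g
  exact MorphismProperty.of_isPullback (P := P) (IsPullback.of_right' h1 h2) h

/-- Universally open surjective morphisms locally of finite type to a locally Noetherian scheme have, over
each affine open, finite surjective covers with local lifts. -/
theorem exists_cover {Y Y' : Scheme.{u}} [IsLocallyNoetherian Y] (g : Y' ⟶ Y) [LocallyOfFiniteType g]
    [UniversallyOpen g] [Surjective g] {A : Type u} [CommRing A] [IsNoetherianRing A]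
    (ι : Spec (CommRingCat.of A) ⟶ Y) :
    ∃ (A₁ : Type u) (_ : CommRing A₁) (_ : Algebra A A₁), Module.Finite A A₁ ∧
      Surjective (Spec.map (CommRingCat.ofHom (algebraMap A A₁))) ∧
      ∀ x : Spec (CommRingCat.of A₁), ∃ (O : (Spec (CommRingCat.of A₁)).Opens) (t : O.toScheme ⟶ Y'), x ∈ O ∧
        t ≫ g = O.ι ≫ Spec.map (CommRingCat.ofHom (algebraMap A A₁)) ≫ ι := by
  haveI : LocallyOfFinitePresentation g := inferInstance
  obtain ⟨A₁, _, _, hfin, hs, h⟩ := exists_finite_lifts (pullback.snd g ι)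
  refine ⟨A₁, inferInstance, inferInstance, hfin, hs, fun x => ?_⟩
  obtain ⟨O, t, hx, ht⟩ := h x
  exact ⟨O, t ≫ pullback.fst g ι, hx, by rw [Category.assoc, pullback.condition, reassoc_of% ht]⟩

/-- The finite surjective cover, as a morphism. -/
theorem exists_cover' {Y Y' : Scheme.{u}} [IsLocallyNoetherian Y] (g : Y' ⟶ Y) [LocallyOfFiniteType g]
    [UniversallyOpen g] [Surjective g] {U : Scheme.{u}} [IsAffine U] (ι : U ⟶ Y) [IsOpenImmersion ι] :
    ∃ (Y₁ : Scheme.{u}) (h : Y₁ ⟶ U), IsAffine Y₁ ∧ IsFinite h ∧ Surjective h ∧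
      ∀ x : Y₁, ∃ (O : Y₁.Opens) (t : O.toScheme ⟶ Y'), x ∈ O ∧ t ≫ g = O.ι ≫ h ≫ ι := by
  haveI : IsLocallyNoetherian U := isLocallyNoetherian_of_isOpenImmersion ι
  haveI : IsNoetherianRing Γ(U, ⊤) := IsLocallyNoetherian.component_noetherian ⟨⊤, isAffineOpen_top U⟩
  obtain ⟨A₁, _, _, hfin, hs, h⟩ := exists_cover g (A := Γ(U, ⊤)) (U.isoSpec.inv ≫ ι)
  haveI := hs
  haveI : IsFinite (Spec.map (CommRingCat.ofHom (algebraMap Γ(U, ⊤) A₁))) :=
    (IsFinite.SpecMap_iff _).2 (RingHom.finite_algebraMap.2 hfin)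
  exact ⟨Spec (CommRingCat.of A₁), Spec.map (CommRingCat.ofHom (algebraMap Γ(U, ⊤) A₁)) ≫ U.isoSpec.inv,
    inferInstance, inferInstance, inferInstance, fun x => by simpa only [Category.assoc] using h x⟩

end Groth.Agent.Fibres16.UOSect
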