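import Mathlib
import Groth.Agent.QSect27.Scheme
import Groth.Agent.ModPairLib.SemiVal.AIC
import Groth.Agent.ModPairLib.SemiVal.Etale
import Groth.Agent.Hens.RigidAIC

/-!
# Sections of universally open morphisms over absolutely integrally closed local domains
-/

set_option autoImplicit false
set_option linter.style.haveILetI false

universe u

open CategoryTheory Limits AlgebraicGeometry

namespace Groth.Agent.Fibres16.UOSect

attribute [local instance] specializationOrder

/-- An absolutely integrally closed local ring is strictly henselian. -/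
theorem isStrictlyHenselian_of_isAIC {R : Type u} [CommRing R] [IsLocalRing R] (hR : Curves.IsAIC R) :
    EtCoh.IsStrictlyHenselianLocalRing R := by
  have hR' : Hens.RigidAIC.IsAIC R := fun f hf hd => hR f hf (Nat.pos_of_ne_zero hd)
  haveI := Hens.RigidAIC.henselianLocalRing_of_isAIC hR'
  haveI := Hens.RigidAIC.isAlgClosed_residueField hR'
  exact ⟨inferInstance, inferInstance⟩

theorem natLe {a b : ℕ} (h : (a : WithBot ℕ∞) ≤ (b : WithBot ℕ∞)) : a ≤ b := by
  have : ((a : ℕ∞) : WithBot ℕ∞) ≤ ((b : ℕ∞) : WithBot ℕ∞) := h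
  rwa [WithBot.coe_le_coe, ENat.natCast_le_natCast] at this

/-- A universally open algebra of finite presentation over an absolutely integrally closed local
domain with nonempty closed fibre has a retraction. -/
theorem exists_section_local {R : Type u} [CommRing R] [IsDomain R] [IsLocalRing R] (hR : Curves.IsAIC R)
    (B : Type u) [CommRing B] [Algebra R B] [Algebra.FinitePresentation R B]
    [UniversallyOpen (Spec.map (CommRingCat.ofHom (algebraMap R B)))]
    (P : PrimeSpectrum B) (hP : PrimeSpectrum.comap (algebraMap R B) P = IsLocalRing.closedPoint R) :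
    Nonempty (B →ₐ[R] R) := by
  classical
  let f := Spec.map (CommRingCat.ofHom (algebraMap R B))
  haveI : LocallyOfFinitePresentation f :=
    HasRingHomProperty.Spec_iff.2 (RingHom.finitePresentation_algebraMap.2 inferInstance)
  let s : Spec (CommRingCat.of R) := IsLocalRing.closedPoint R
  -- chains in the closed fibre have bounded length
  obtain ⟨N, hN⟩ : ∃ N : ℕ, ∀ l : LTSeries ↥(Spec (CommRingCat.of B)), (∀ i, f (l i) = s) → l.length ≤ N := by
    let I : Ideal B := (IsLocalRing.maximalIdeal R).map (algebraMap R B)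
    let B' := B ⧸ I
    obtain ⟨n, φ, hφ⟩ := Algebra.FiniteType.iff_quotient_mvPolynomial''.1 (inferInstance : Algebra.FiniteType R B)
    let ψ : MvPolynomial (Fin n) R →+* B' := (Ideal.Quotient.mk I).comp φ.toRingHom
    have hψ : Function.Surjective ψ := Ideal.Quotient.mk_surjective.comp hφ
    let π : MvPolynomial (Fin n) R →+* MvPolynomial (Fin n) (IsLocalRing.ResidueField R) :=
      MvPolynomial.map (IsLocalRing.residue R)
    have hπ : Function.Surjective π := MvPolynomial.map_surjective _ IsLocalRing.residue_surjective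
    have hker : RingHom.ker π ≤ RingHom.ker ψ := by
      rw [MvPolynomial.ker_map, Ideal.map_le_iff_le_comap, IsLocalRing.ker_residue]
      intro r hr
      rw [Ideal.mem_comap, RingHom.mem_ker]
      show Ideal.Quotient.mk I (φ (MvPolynomial.C r)) = 0
      rw [Ideal.Quotient.eq_zero_iff_mem, show φ (MvPolynomial.C r) = algebraMap R B r from φ.commutes r]
      exact Ideal.mem_map_of_mem _ hr
    let ψ' := RingHom.liftOfSurjective π hπ ⟨ψ, hker⟩
    have hψ' : Function.Surjective ψ' := fun b => by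
      obtain ⟨a, rfl⟩ := hψ b
      exact ⟨π a, RingHom.liftOfRightInverse_comp_apply ..⟩
    refine ⟨n, fun l hl => ?_⟩
    have hI : ∀ i, I ≤ (l i).asIdeal := fun i => by
      rw [Ideal.map_le_iff_le_comap]
      exact (congrArg PrimeSpectrum.asIdeal (hl i)).ge
    let q : Fin (l.length + 1) → PrimeSpectrum B' := fun i =>
      ⟨(l i.rev).asIdeal.map (Ideal.Quotient.mk I), Ideal.map_isPrime_of_surjective Ideal.Quotient.mk_surjective
        (by rw [Ideal.mk_ker]; exact hI _)⟩
    have hback : ∀ i, (q i).asIdeal.comap (Ideal.Quotient.mk I) = (l i.rev).asIdeal := fun i => by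
      show Ideal.comap _ (Ideal.map _ _) = _
      rw [Ideal.comap_map_of_surjective _ Ideal.Quotient.mk_surjective, sup_eq_left]
      intro x hx
      exact hI _ (Ideal.Quotient.eq_zero_iff_mem.1 hx)
    have hmono : StrictMono q := fun i j hij => by
      have h := l.strictMono (Fin.rev_lt_rev.mpr hij)
      have hle : (l i.rev).asIdeal ≤ (l j.rev).asIdeal :=
        (PrimeSpectrum.le_iff_specializes (l i.rev) (l j.rev)).2 h.le
      refine lt_of_le_of_ne (Ideal.map_mono hle : (q i).asIdeal ≤ (q j).asIdeal) fun he => h.ne' ?_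
      exact PrimeSpectrum.ext (by rw [← hback i, ← hback j, he])
    have h1 : (l.length : WithBot ℕ∞) ≤ ringKrullDim B' := Order.le_krullDim_iff.mpr ⟨LTSeries.mk _ q hmono, rfl⟩
    have h2 : ringKrullDim B' ≤ n := by
      refine (ringKrullDim_le_of_surjective ψ' hψ').trans ?_
      rw [MvPolynomial.ringKrullDim_of_isNoetherianRing, ringKrullDim_eq_zero_of_field, zero_add]
      simp
    have h3 := h1.trans h2
    exact natLe h3
  -- a chain of maximal length
  let S : Set ℕ := {m | ∃ l : LTSeries ↥(Spec (CommRingCat.of B)), (∀ i, f (l i) = s) ∧ l.length = m}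
  have hSne : S.Nonempty := ⟨0, RelSeries.singleton _ P, fun _ => hP, rfl⟩
  have hSbdd : BddAbove S := ⟨N, by rintro m ⟨l, hl, rfl⟩; exact hN l hl⟩
  obtain ⟨l, hl, hle⟩ := Nat.sSup_mem hSne hSbdd
  have hmax : ∀ l' : LTSeries ↥(Spec (CommRingCat.of B)), (∀ i, f (l' i) = s) → l'.length ≤ l.length :=
    fun l' hl' => hle ▸ le_csSup hSbdd ⟨l', hl', rfl⟩
  let x := l.head
  let z := l.last
  let zf : ↥(f.base ⁻¹' {s}) := ⟨z, hl _⟩
  have hZ : IsClosed (closure ({zf} : Set ↥(f.base ⁻¹' {s}))) := isClosed_closure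
  obtain ⟨e, hdim, hchain⟩ := QSect27.exists_chain_of_component f s _ hZ z
    ⟨zf, subset_closure rfl, rfl⟩ (by
      rintro _ ⟨w, hw, rfl⟩
      exact specializes_iff_mem_closure.1 (((specializes_iff_mem_closure (x := zf) (y := w)).2 hw).map
        continuous_subtype_val))
  have he : e = l.length := by
    refine le_antisymm ?_ ?_
    · obtain ⟨l', -, hl', hlen⟩ := hchain ⊤ trivial
      exact hlen ▸ hmax l' fun i => (hl' i).1
    · have hspec : ∀ i j, i ≤ j → (⟨l j, hl j⟩ : ↥(f.base ⁻¹' {s})) ⤳ ⟨l i, hl i⟩ := fun i j hij =>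
        (subtype_specializes_iff _ _).2 (l.monotone hij)
      have hmem : ∀ i, (⟨l i, hl i⟩ : ↥(f.base ⁻¹' {s})) ∈ closure ({zf} : Set ↥(f.base ⁻¹' {s})) := fun i =>
        specializes_iff_mem_closure.1 (hspec i (Fin.last _) (Fin.le_last i))
      have h1 := QSect27.le_topologicalKrullDim (T := ↥(closure ({zf} : Set ↥(f.base ⁻¹' {s}))))
        (fun i => ⟨⟨l i, hl i⟩, hmem i⟩) (fun i j hij => (subtype_specializes_iff _ _).2 (hspec i j hij))
        (fun i j h => l.strictMono.injective (congrArg (fun w => w.1.1) h))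
      rw [hdim] at h1
      exact natLe h1
  have hclosed : ∀ x', f x' = s → x ⤳ x' → x' = x := fun x' hx' hxx' => by
    by_contra hne
    have hlt : x' < l.head := lt_of_le_of_ne hxx' hne
    have := hmax (l.cons x' hlt) (fun i => by
      refine Fin.cases ?_ (fun j => ?_) i
      · exact hx'
      · exact (congrArg f (RelSeries.cons_cast_succ l x' hlt _)).trans (hl (Fin.cast (by simp) j)))
    simp at this
  have hopen : EGA43.IsUnivOpenAt f z := fun Y'' g x' _ U hU => by
    haveI : UniversallyOpen f := ‹_›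
    exact (pullback.snd f g).isOpenMap.image_mem_nhds hU
  obtain ⟨S', S'', _, w, π, h, hw, hπ, hπs, -, hhf, s'', hs'', -, -⟩ :=
    QSect27.exists_quasiSection f s x (hl 0) hclosed z (hl _) (l.monotone (Fin.zero_le _)) hopen l.length
      (fun l' hl' _ => hmax l' hl') (he ▸ hchain)
  -- retractions
  haveI := hw; haveI := hπ
  let T := Spec (CommRingCat.of R)
  let eR : Γ(T, ⊤) ≃+* R := (Scheme.ΓSpecIso (CommRingCat.of R)).commRingCatIsoToRingEquiv
  haveI : IsDomain Γ(T, ⊤) := MulEquiv.isDomain R eR.toMulEquiv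
  haveI : IsLocalRing Γ(T, ⊤) := RingEquiv.isLocalRing eR.symm
  have hT : Curves.IsAIC Γ(T, ⊤) := ModPairLib.SemiVal.AIC.isAIC_of_surjective hR eR.symm.toRingHom eR.symm.surjective
  have hws : ∀ x : T, ∃ i : PUnit.{1}, x ∈ Set.range (fun a => ((fun _ : PUnit.{1} => w) i) a) := fun y => ⟨⟨⟩, by
    have hmem : s ∈ Set.range w := ⟨π s'', by
      rw [← Scheme.Hom.comp_apply]
      exact (hs''.ge rfl : s'' ∈ (π ≫ w).base ⁻¹' {s})⟩
    exact (IsLocalRing.specializes_closedPoint y).mem_open w.isOpenMap.isOpen_range hmem⟩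
  obtain ⟨-, σ, hσ⟩ := ModPairLib.SemiVal.Etale.exists_lift_etale (isStrictlyHenselian_of_isAIC hT)
    (fun _ : PUnit.{1} => w) (fun _ => hw) hws (𝟙 T)
  obtain ⟨-, τ, hτ⟩ := ModPairLib.SemiVal.AIC.exists_lift_finite hT (fun _ : PUnit.{1} => π) (fun _ => hπ)
    (fun y => ⟨⟨⟩, π.surjective y⟩) σ
  have hsec : (τ ≫ h) ≫ f = 𝟙 T := by
    rw [Category.assoc, hhf, ← Category.assoc, hτ, hσ]
  obtain ⟨φ, hφ⟩ := Spec.map_surjective (τ ≫ h)
  have hcomp : CommRingCat.ofHom (algebraMap R B) ≫ φ = 𝟙 _ := by
    apply Spec.map_injective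
    rw [Spec.map_comp, hφ, Spec.map_id]
    exact hsec
  exact ⟨{ φ.hom with commutes' := fun r => congrArg (fun ψ => ψ.hom r) hcomp }⟩

end Groth.Agent.Fibres16.UOSect
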