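import Mathlib
import Groth.Agent.Fibres16.UOSect.Local

/-!
# Finite surjective morphisms trivialising universally open morphisms (EGA IV 14.5.9)
-/

set_option autoImplicit false
set_option linter.style.haveILetI false
set_option backward.isDefEq.respectTransparency.types false

universe u

open CategoryTheory Limits AlgebraicGeometry TensorProduct

namespace Groth.Agent.Fibres16.UOSect

/-- Points in universally open algebras lift to absolutely integrally closed local domains. -/
theorem exists_algHom_local {A R C : Type u} [CommRing A] [CommRing R] [IsDomain R] [IsLocalRing R]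
    (hR : Curves.IsAIC R) [Algebra A R] [CommRing C] [Algebra A C] [Algebra.FinitePresentation A C]
    [UniversallyOpen (Spec.map (CommRingCat.ofHom (algebraMap A C)))] (w : PrimeSpectrum C)
    (hw : w.asIdeal.comap (algebraMap A C) = (IsLocalRing.maximalIdeal R).comap (algebraMap A R)) :
    Nonempty (C →ₐ[A] R) := by
  have hfst : Spec.map (CommRingCat.ofHom (algebraMap R (R ⊗[A] C))) =
      (pullbackSpecIso A R C).inv ≫ pullback.fst _ _ := (pullbackSpecIso_inv_fst ..).symm
  haveI : UniversallyOpen (Spec.map (CommRingCat.ofHom (algebraMap R (R ⊗[A] C)))) := by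
    rw [hfst]; infer_instance
  obtain ⟨z, hz, -⟩ := Scheme.Pullback.exists_preimage_pullback
    (f := Spec.map (CommRingCat.ofHom (algebraMap A R)))
    (g := Spec.map (CommRingCat.ofHom (algebraMap A C))) (IsLocalRing.closedPoint R) w
    (PrimeSpectrum.ext hw.symm)
  obtain ⟨ψ⟩ := exists_section_local hR (R ⊗[A] C) ((pullbackSpecIso A R C).hom z) (by
    show Spec.map (CommRingCat.ofHom (algebraMap R (R ⊗[A] C))) ((pullbackSpecIso A R C).hom z) = _
    rw [← Scheme.Hom.comp_apply, hfst, Iso.hom_inv_id_assoc]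
    exact hz)
  exact ⟨(ψ.restrictScalars A).comp Algebra.TensorProduct.includeRight⟩

variable {A : Type u} [CommRing A] [IsDomain A]

local notation "Kc" => AlgebraicClosure (FractionRing A)
local notation "Rp" => integralClosure A (AlgebraicClosure (FractionRing A))

theorem isAIC_closure : Curves.IsAIC Rp := fun f hf hd => by
  obtain ⟨r, hr⟩ := Hens.RigidAIC.isAIC_integralClosure A Kc f hf hd.ne'
  exact ⟨r, hr⟩

variable {Y' : Scheme.{u}} (g : Y' ⟶ Spec (CommRingCat.of A)) [LocallyOfFinitePresentation g]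
  [UniversallyOpen g] [Surjective g]

set_option maxHeartbeats 1000000 in
/-- Near every point of the absolute integral closure, a lift defined over a finitely generated subalgebra. -/
theorem exists_lift_nbhd (Q : PrimeSpectrum Rp) :
    ∃ (h : Rp) (T : Finset Rp), h ∉ Q.asIdeal ∧ ∀ A₁ : Subalgebra A Rp, (T : Set Rp) ⊆ A₁ →
      ∃ (hm : h ∈ A₁) (t : Spec (CommRingCat.of (Localization.Away (⟨h, hm⟩ : A₁))) ⟶ Y'),
        t ≫ g = Spec.map (CommRingCat.ofHom (algebraMap A (Localization.Away (⟨h, hm⟩ : A₁)))) := by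
  classical
  let R := Localization.AtPrime Q.asIdeal
  have hR : Curves.IsAIC R := ModPairLib.SemiVal.AIC.isAIC_localization isAIC_closure Q.asIdeal.primeCompl R
  obtain ⟨y, hy⟩ := g.surjective (PrimeSpectrum.comap (algebraMap A Rp) Q)
  obtain ⟨_, ⟨W, hW, rfl⟩, hyW, -⟩ := Y'.isBasis_affineOpens.exists_subset_of_mem_open (Set.mem_univ y) isOpen_univ
  obtain ⟨φ, hφ⟩ := Spec.map_surjective (hW.fromSpec ≫ g)
  letI : Algebra A Γ(Y', W) := φ.hom.toAlgebra
  have hφ' : Spec.map (CommRingCat.ofHom (algebraMap A Γ(Y', W))) = hW.fromSpec ≫ g := hφ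
  haveI : Algebra.FinitePresentation A Γ(Y', W) := by
    have h1 : LocallyOfFinitePresentation (Spec.map φ) := by rw [hφ]; infer_instance
    exact (HasRingHomProperty.Spec_iff (P := @LocallyOfFinitePresentation)).1 h1
  haveI : UniversallyOpen (Spec.map (CommRingCat.ofHom (algebraMap A Γ(Y', W)))) := by
    rw [hφ']; infer_instance
  obtain ⟨w, hw⟩ : y ∈ Set.range hW.fromSpec := by rw [hW.range_fromSpec]; exact hyW
  have hwQ : w.asIdeal.comap (algebraMap A Γ(Y', W)) = Q.asIdeal.comap (algebraMap A Rp) := by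
    have h1 : Spec.map φ w = PrimeSpectrum.comap (algebraMap A Rp) Q := by
      rw [hφ, Scheme.Hom.comp_apply, hw, hy]
    exact congrArg PrimeSpectrum.asIdeal h1
  obtain ⟨ψC⟩ := exists_algHom_local (A := A) hR w (by
    rw [hwQ, IsScalarTower.algebraMap_eq A Rp R, ← Ideal.comap_comap]
    exact congrArg _ (IsLocalization.AtPrime.comap_maximalIdeal R Q.asIdeal).symm)
  obtain ⟨s, hs⟩ := (inferInstance : Algebra.FiniteType A Γ(Y', W)).out
  obtain ⟨h, hh⟩ := IsLocalization.exist_integer_multiples_of_finset Q.asIdeal.primeCompl (s.image ψC)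
  choose r hr using hh
  refine ⟨(h : Rp), insert (h : Rp) ((s.image ψC).attach.image fun b => r b.1 b.2), h.2, fun A₁ hA₁ => ?_⟩
  have hm : (h : Rp) ∈ A₁ := hA₁ (by simp)
  refine ⟨hm, ?_⟩
  let L := Localization.Away (⟨(h : Rp), hm⟩ : A₁)
  have hu : ∀ z : Submonoid.powers (⟨(h : Rp), hm⟩ : A₁), IsUnit (((IsScalarTower.toAlgHom A Rp R).comp A₁.val) z) := by
    rintro ⟨_, n, rfl⟩
    show IsUnit (algebraMap Rp R ((h : Rp) ^ n))
    rw [map_pow]
    exact (IsLocalization.map_units R h).pow n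
  let j : L →ₐ[A] R := IsLocalization.liftAlgHom (M := Submonoid.powers (⟨(h : Rp), hm⟩ : A₁)) hu
  have hj : Function.Injective j := by
    refine (IsLocalization.lift_injective_iff hu).2 fun a b => ?_
    constructor
    · intro hab
      exact congrArg _ ((IsLocalization.injective L (powers_le_nonZeroDivisors_of_noZeroDivisors
        (fun (h0 : (⟨(h : Rp), hm⟩ : A₁) = 0) => h.2 (by rw [show (h : Rp) = 0 from congrArg Subtype.val h0]; exact Q.asIdeal.zero_mem)))) hab)
    · intro hab
      exact congrArg _ (Subtype.ext (IsLocalization.injective R (M := Q.asIdeal.primeCompl)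
        (fun c hc => mem_nonZeroDivisors_of_ne_zero fun h0 => hc (h0 ▸ Q.asIdeal.zero_mem)) hab))
  have hmem : ∀ c, ψC c ∈ j.range := fun c => by
    have hc : c ∈ Algebra.adjoin A (s : Set Γ(Y', W)) := hs ▸ Algebra.mem_top
    induction hc using Algebra.adjoin_induction with
    | mem c hc =>
      have hb : ψC c ∈ s.image ψC := Finset.mem_image_of_mem _ hc
      have hr' : r (ψC c) hb ∈ A₁ := hA₁ (Finset.mem_insert_of_mem
        (Finset.mem_image.2 ⟨⟨_, hb⟩, Finset.mem_attach _ _, rfl⟩))
      refine ⟨IsLocalization.mk' L (⟨r (ψC c) hb, hr'⟩ : A₁) ⟨⟨(h : Rp), hm⟩, Submonoid.mem_powers _⟩, ?_⟩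
      show IsLocalization.lift hu _ = _
      rw [IsLocalization.lift_mk'_spec]
      show algebraMap Rp R (r (ψC c) hb) = algebraMap Rp R (h : Rp) * ψC c
      rw [hr, Algebra.smul_def]
    | algebraMap a => rw [AlgHom.commutes]; exact Subalgebra.algebraMap_mem _ a
    | add x y _ _ hx hy => rw [map_add]; exact add_mem hx hy
    | mul x y _ _ hx hy => rw [map_mul]; exact mul_mem hx hy
  let χ : Γ(Y', W) →ₐ[A] L := (AlgEquiv.ofInjective j hj).symm.toAlgHom.comp (ψC.codRestrict j.range hmem)
  refine ⟨Spec.map (CommRingCat.ofHom χ.toRingHom) ≫ hW.fromSpec, ?_⟩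
  rw [Category.assoc, ← hφ', ← Spec.map_comp]
  congr 1
  exact CommRingCat.hom_ext χ.comp_algebraMap

/-- Finite covers of integral affine schemes with local lifts. -/
theorem exists_finite_lifts_domain :
    ∃ (A₁ : Subalgebra A Rp), Module.Finite A A₁ ∧
      ∀ x : Spec (CommRingCat.of A₁), ∃ (O : (Spec (CommRingCat.of A₁)).Opens) (t : O.toScheme ⟶ Y'), x ∈ O ∧
        t ≫ g = O.ι ≫ Spec.map (CommRingCat.ofHom (algebraMap A A₁)) := by
  classical
  choose h T hh hlift using exists_lift_nbhd g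
  obtain ⟨t, ht⟩ := (isCompact_univ : IsCompact (Set.univ : Set (PrimeSpectrum Rp))).elim_finite_subcover
    (fun Q => (PrimeSpectrum.basicOpen (h Q) : Set (PrimeSpectrum Rp))) (fun Q => (PrimeSpectrum.basicOpen (h Q)).2)
    (fun Q _ => Set.mem_iUnion.2 ⟨Q, hh Q⟩)
  let A₁ : Subalgebra A Rp := Algebra.adjoin A ((t.biUnion T : Finset Rp) : Set Rp)
  refine ⟨A₁, Module.Finite.iff_fg.mpr (fg_adjoin_of_finite (Finset.finite_toSet _) fun a _ =>
    Algebra.IsIntegral.isIntegral a), fun x => ?_⟩
  haveI : Algebra.IsIntegral A₁ Rp := Algebra.IsIntegral.tower_top A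
  obtain ⟨P, -, hPp, hP⟩ := Ideal.exists_ideal_over_prime_of_isIntegral (S := Rp) x.asIdeal ⊥ (by
    rw [← RingHom.ker_eq_comap_bot, (RingHom.injective_iff_ker_eq_bot _).mp
      (show Function.Injective (algebraMap A₁ Rp) from Subtype.val_injective)]
    exact bot_le)
  obtain ⟨Q, hQt, hQP⟩ : ∃ Q ∈ t, h Q ∉ P := by
    simpa using ht (Set.mem_univ (⟨P, hPp⟩ : PrimeSpectrum Rp))
  obtain ⟨hm, l, hl⟩ := hlift Q A₁ ((Finset.subset_biUnion_of_mem T hQt).trans' subset_rfl |>
    fun hs => Set.Subset.trans (Finset.coe_subset.2 hs) Algebra.subset_adjoin)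
  let a : A₁ := ⟨h Q, hm⟩
  let ι := Spec.map (CommRingCat.ofHom (algebraMap A₁ (Localization.Away a)))
  haveI : IsOpenImmersion ι := IsOpenImmersion.of_isLocalization a
  refine ⟨ι.opensRange, ι.isoOpensRange.inv ≫ l, ?_, ?_⟩
  · refine (PrimeSpectrum.localization_away_comap_range (Localization.Away a) a).ge ?_
    intro ha
    rw [← hP] at ha
    exact hQP ha
  · rw [Category.assoc, hl, ← cancel_epi ι.isoOpensRange.hom, Iso.hom_inv_id_assoc, ← Category.assoc,
      Scheme.Hom.isoOpensRange_hom_ι, ← Spec.map_comp, ← CommRingCat.ofHom_comp,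
      ← IsScalarTower.algebraMap_eq]

omit [IsDomain A] in
/-- Finite surjective covers of Noetherian affine schemes with local lifts. -/
theorem exists_finite_lifts [IsNoetherianRing A] :
    ∃ (A₁ : Type u) (_ : CommRing A₁) (_ : Algebra A A₁), Module.Finite A A₁ ∧
      Surjective (Spec.map (CommRingCat.ofHom (algebraMap A A₁))) ∧
      ∀ x : Spec (CommRingCat.of A₁), ∃ (O : (Spec (CommRingCat.of A₁)).Opens) (t : O.toScheme ⟶ Y'), x ∈ O ∧
        t ≫ g = O.ι ≫ Spec.map (CommRingCat.ofHom (algebraMap A A₁)) := by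
  classical
  haveI : Finite (minimalPrimes A) := (minimalPrimes.finite_of_isNoetherianRing A).to_subtype
  haveI : ∀ p : minimalPrimes A, (p.1).IsPrime := fun p => p.2.1.1
  let q : ∀ p : minimalPrimes A, Spec (CommRingCat.of (A ⧸ p.1)) ⟶ Spec (CommRingCat.of A) := fun p =>
    Spec.map (CommRingCat.ofHom (algebraMap A (A ⧸ p.1)))
  have hg : ∀ p : minimalPrimes A, LocallyOfFinitePresentation (pullback.snd g (q p)) ∧
      UniversallyOpen (pullback.snd g (q p)) ∧ Surjective (pullback.snd g (q p)) := fun p =>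
    ⟨inferInstance, inferInstance, inferInstance⟩
  have h1 := fun p : minimalPrimes A => haveI := (hg p).1; haveI := (hg p).2.1; haveI := (hg p).2.2
    exists_finite_lifts_domain (pullback.snd g (q p))
  choose D hD hlift using h1
  let A₁ := ∀ p : minimalPrimes A, D p
  haveI : ∀ p : minimalPrimes A, Module.Finite A (D p) := fun p =>
    haveI := hD p
    Module.Finite.trans (A ⧸ p.1) (D p)
  refine ⟨A₁, inferInstance, inferInstance, inferInstance, ⟨fun x => ?_⟩, fun x => ?_⟩
  · obtain ⟨p, hp, hpx⟩ := Ideal.exists_minimalPrimes_le (J := x.asIdeal) (bot_le : (⊥ : Ideal A) ≤ _)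
    let p' : minimalPrimes A := ⟨p, hp⟩
    haveI := hD p'
    haveI : (x.asIdeal.map (Ideal.Quotient.mk p)).IsPrime :=
      Ideal.map_isPrime_of_surjective Ideal.Quotient.mk_surjective (by rw [Ideal.mk_ker]; exact hpx)
    have hinj : Function.Injective (algebraMap (A ⧸ p'.1) (D p')) := fun a b hab => by
      have h2 : algebraMap (A ⧸ p'.1) (AlgebraicClosure (FractionRing (A ⧸ p'.1))) a =
          algebraMap (A ⧸ p'.1) (AlgebraicClosure (FractionRing (A ⧸ p'.1))) b :=
        congrArg (fun z : D p' => ((z.1 : integralClosure _ _) : AlgebraicClosure (FractionRing (A ⧸ p'.1)))) hab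
      rw [IsScalarTower.algebraMap_apply (A ⧸ p'.1) (FractionRing (A ⧸ p'.1)),
        IsScalarTower.algebraMap_apply (A ⧸ p'.1) (FractionRing (A ⧸ p'.1)) _ b] at h2
      exact IsFractionRing.injective _ _ ((algebraMap (FractionRing (A ⧸ p'.1)) _).injective h2)
    obtain ⟨P, -, hPp, hP⟩ := Ideal.exists_ideal_over_prime_of_isIntegral (S := D p')
      (x.asIdeal.map (Ideal.Quotient.mk p)) ⊥ (by
        rw [← RingHom.ker_eq_comap_bot, (RingHom.injective_iff_ker_eq_bot _).mp hinj]
        exact bot_le)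
    refine ⟨⟨P.comap (Pi.evalRingHom (fun p => D p) p'), inferInstance⟩, PrimeSpectrum.ext ?_⟩
    show (P.comap (Pi.evalRingHom (fun p => D p) p')).comap (algebraMap A A₁) = x.asIdeal
    have e : (Pi.evalRingHom (fun p => D p) p').comp (algebraMap A A₁) =
        (algebraMap (A ⧸ p'.1) (D p')).comp (Ideal.Quotient.mk p'.1) := rfl
    rw [Ideal.comap_comap, e, ← Ideal.comap_comap, hP,
      Ideal.comap_map_of_surjective _ Ideal.Quotient.mk_surjective, sup_eq_left]
    exact fun z hz => hpx (Ideal.Quotient.eq_zero_iff_mem.1 hz)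
  · obtain ⟨p, z, rfl⟩ : ∃ (p : minimalPrimes A) (z : Spec (CommRingCat.of (D p))),
        Spec.map (CommRingCat.ofHom (Pi.evalRingHom (fun p => (D p : Type u)) p)) z = x := by
      obtain ⟨p, z, hz⟩ := (PrimeSpectrum.exists_comap_evalRingHom_eq x)
      exact ⟨p, z, hz⟩
    obtain ⟨O, t, hzO, ht⟩ := hlift p z
    let ev := Spec.map (CommRingCat.ofHom (Pi.evalRingHom (fun p => (D p : Type u)) p))
    let ι := O.ι ≫ ev
    refine ⟨ι.opensRange, ι.isoOpensRange.inv ≫ t ≫ pullback.fst g (q p), ⟨⟨z, hzO⟩, rfl⟩, ?_⟩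
    rw [Category.assoc, Category.assoc, pullback.condition, reassoc_of% ht,
      ← cancel_epi ι.isoOpensRange.hom, Iso.hom_inv_id_assoc, ← Category.assoc ι.isoOpensRange.hom,
      Scheme.Hom.isoOpensRange_hom_ι]
    simp only [ι, ev, q, Category.assoc, ← Spec.map_comp]
    rfl

end Groth.Agent.Fibres16.UOSect
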