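import Groth.Agent.Fibres16.UOSect.Descent
import Groth.Agent.Wt.ExtendFinite

/-!
# Finite surjective covers with local lifts over Noetherian schemes
-/

set_option autoImplicit false
set_option linter.style.haveILetI false

universe u

open CategoryTheory Limits AlgebraicGeometry TopologicalSpace

namespace Groth.Agent.Fibres16.UOSect

variable {Y Y' : Scheme.{u}} (g : Y' ⟶ Y)

/-- `π` has local lifts to `g` at the points over `V`. -/
def LiftsOver {Z : Scheme.{u}} (π : Z ⟶ Y) (V : Set Y) : Prop :=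
  ∀ z : Z, π z ∈ V → ∃ (O : Z.Opens) (t : O.toScheme ⟶ Y'), z ∈ O ∧ t ≫ g = O.ι ≫ π

theorem LiftsOver.comp {Z Z' : Scheme.{u}} {π : Z ⟶ Y} {V : Set Y} (h : LiftsOver g π V) (q : Z' ⟶ Z) :
    LiftsOver g (q ≫ π) V := fun z hz => by
  obtain ⟨O, t, hzO, ht⟩ := h (q z) (by rwa [← Scheme.Hom.comp_apply])
  exact ⟨q ⁻¹ᵁ O, (q ∣_ O) ≫ t, hzO, by rw [Category.assoc, ht, ← Category.assoc, morphismRestrict_ι, Category.assoc]⟩

theorem exists_cover_noetherian [IsNoetherian Y] [LocallyOfFiniteType g] [UniversallyOpen g] [Surjective g] :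
    ∃ (Z : Scheme.{u}) (π : Z ⟶ Y), IsFinite π ∧ Surjective π ∧ LiftsOver g π Set.univ := by
  classical
  let 𝒰 := Y.affineCover.finiteSubcover
  have key : ∀ s : Finset 𝒰.I₀, ∃ (Z : Scheme.{u}) (π : Z ⟶ Y), IsFinite π ∧ Surjective π ∧
      ∀ i ∈ s, LiftsOver g π (Set.range (𝒰.f i)) := by
    intro s
    induction s using Finset.induction_on with
    | empty => exact ⟨Y, 𝟙 Y, inferInstance, inferInstance, fun i hi => absurd hi (Finset.notMem_empty i)⟩
    | insert i s _ ih =>
      obtain ⟨Z, π, _, _, hπ⟩ := ih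
      haveI : IsAffine (𝒰.X i) := by
        show IsAffine (Y.affineCover.X _)
        infer_instance
      let U := (𝒰.f i).opensRange
      haveI : IsAffine (U : Scheme.{u}) := .of_isIso (𝒰.f i).isoOpensRange.inv
      obtain ⟨Y₁, h, _, _, _, hlift⟩ := exists_cover' g U.ι
      obtain ⟨V', π', j, _, _, hj⟩ := Wt.ExtendFinite.exists_extension U
        (isCompact_range (𝒰.f i).continuous) h
      haveI : IsOpenImmersion j := MorphismProperty.of_isPullback (P := @IsOpenImmersion) hj.flip inferInstance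
      have hV' : LiftsOver g π' (Set.range (𝒰.f i)) := by
        intro z hz
        obtain ⟨w, hw, -⟩ := Scheme.Pullback.exists_preimage_pullback (f := π') (g := U.ι) z ⟨π' z, hz⟩ rfl
        obtain ⟨y, rfl⟩ : z ∈ Set.range j := ⟨hj.isoPullback.inv w, by
          rw [← Scheme.Hom.comp_apply, IsPullback.isoPullback_inv_fst, hw]⟩
        obtain ⟨O, t, hyO, ht⟩ := hlift y
        let ι := O.ι ≫ j
        refine ⟨ι.opensRange, ι.isoOpensRange.inv ≫ t, ⟨⟨y, hyO⟩, rfl⟩, ?_⟩
        rw [Category.assoc, ht, ← cancel_epi ι.isoOpensRange.hom, Iso.hom_inv_id_assoc,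
          ← Category.assoc ι.isoOpensRange.hom, Scheme.Hom.isoOpensRange_hom_ι]
        simp only [ι, Category.assoc]
        rw [hj.w]
      refine ⟨pullback π π', pullback.fst π π' ≫ π, inferInstance, inferInstance, fun i' hi' => ?_⟩
      rcases Finset.mem_insert.1 hi' with rfl | hi'
      · rw [pullback.condition]
        exact hV'.comp g _
      · exact (hπ i' hi').comp g _
  haveI : Fintype 𝒰.I₀ := Fintype.ofFinite _
  obtain ⟨Z, π, h1, h2, h3⟩ := key Finset.univ
  exact ⟨Z, π, h1, h2, fun z _ => by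
    obtain ⟨i, y, hy⟩ := 𝒰.exists_eq (π z)
    exact h3 i (Finset.mem_univ i) z ⟨y, hy⟩⟩

end Groth.Agent.Fibres16.UOSect
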